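import Mathlib
import Cfsg.Prelude.Def_Blocks
import Cfsg.Prelude.Def_BlockRank
import Cfsg.Agent.Lib.MinNormalNonabelian

/-!
# S4822 (`4 (p - 1) ≤ k(B₀(G)) ^ 2`): definitions

`A` is a group with a normal subgroup `S` (in use: `A` almost simple with simple `S`, of index prime to `p`).

* `kB M G` : the number of irreducible characters in the principal block;
* `kap M S` : the number of `A`-orbits on the irreducible characters of the principal block of `S`;
* `ker M S` : the number of irreducible characters of `A` in the principal block with `S` in the kernel;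
* `GoodN` / `Good` : the inequality needed for all minimal normal subgroups which are direct powers of `S`;
* `Row p M S` : `Good` for all almost simple groups with socle isomorphic to the simple group `S`;
* `AbOut`, `ExtB` : hypotheses on automorphisms for the criteria;
* `Over`, `NT` : characters over characters of a normal subgroup.
-/

set_option autoImplicit false

open Cfsg Subgroup
open Cfsg.Agent.Lib.MinNormalNonabelian
open scoped ComplexConjugate

namespace Cfsg.Agent.H508.KB

universe u

/-- the number of irreducible characters in the principal block -/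
noncomputable def kB (M : Ideal AlgInt) (G : Type u) [Group G] : ℕ := Nat.card (principalBlock M G)

/-- the arithmetic part of `Good` -/
def GoodN (p K f κ : ℕ) : Prop := ∀ t g n : ℕ, 1 ≤ t → f ≤ t * g → K + (κ + t - 1).choose t + g ≤ n + f + κ →
  4 * (p - 1) ≤ n ^ 2

section normal

variable {A : Type u} [Group A] (M : Ideal AlgInt) (S : Subgroup A) [S.Normal]

/-- conjugation by `A` on the characters of the principal block of `S` -/
def orbSetoid : Setoid (principalBlock M ↥S) where
  r χ ψ := ∃ a : A, ∀ s : ↥S, (ψ.1 : ↥S → ℂ) s = (χ.1 : ↥S → ℂ) (MulAut.conjNormal a s)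
  iseqv := by
    refine ⟨fun χ => ⟨1, fun s => by rw [map_one]; rfl⟩, ?_, ?_⟩
    · rintro χ ψ ⟨a, h⟩
      refine ⟨a⁻¹, fun s => ?_⟩
      rw [h, ← MulAut.mul_apply, ← map_mul, mul_inv_cancel, map_one]
      rfl
    · rintro χ ψ θ ⟨a, h⟩ ⟨b, h'⟩
      refine ⟨a * b, fun s => ?_⟩
      rw [h', h, ← MulAut.mul_apply, ← map_mul]

/-- the number of `A`-orbits on the irreducible characters in the principal block of `S` -/
noncomputable def kap : ℕ := Nat.card (Quotient (orbSetoid M S))

/-- the number of irreducible characters of `A` in the principal block with `S` in the kernel -/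
noncomputable def ker : ℕ :=
  Nat.card {χ : IrrCharacter A // χ ∈ principalBlock M A ∧ ∀ s ∈ S, (χ : A → ℂ) s = (χ : A → ℂ) 1}

/-- the inequality for `(A, S)` : for all groups `G` with a minimal normal subgroup `N = S ^ t` of index prime to `p` on
which `G` induces `A` on the components, `k(B₀(G))` is at least
`k(B₀(A)) - ker + (C(kap + t - 1, t) - kap) + g` for some `g` with `ker ≤ t g`. -/
def Good (p : ℕ) : Prop := GoodN p (kB M A) (ker M S) (kap M S)

/-- `S C_A(P)`, as the product over all Sylow `p`-subgroups `P` of `S` (each of the subgroups `S C_A(P)` is normal in `A`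
and they are all equal) -/
def hull (p : ℕ) (S : Subgroup A) : Subgroup A :=
  S ⊔ ⨆ P : Sylow p ↥S, centralizer (((P : Subgroup ↥S).map S.subtype : Subgroup A) : Set A)

end normal

/-- `Good` for all almost simple groups with socle isomorphic to `S` -/
def Row (p : ℕ) (M : Ideal AlgInt) (S : Type u) [Group S] : Prop :=
  ∀ (A : Type u) [Group A] [Finite A] (T : Subgroup A) [T.Normal], Nonempty (S ≃* ↥T) →
    centralizer (T : Set A) = ⊥ → ¬ p ∣ T.index → Good M T p

/-- `Aut(S) / Inn(S) C(P)` is abelian (`P` a Sylow `p`-subgroup of `S`), more precisely this holds for the groups of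
automorphisms which contain `Inn(S)` with index prime to `p` -/
def AbOut (p : ℕ) (S : Type u) [Group S] : Prop :=
  ∀ (P : Sylow p S) (A : Subgroup (MulAut S)), (MulAut.conj : S →* MulAut S).range ≤ A →
    ¬ p ∣ (MulAut.conj : S →* MulAut S).range.relIndex A → ∀ α ∈ A, ∀ β ∈ A, ∃ s : S, ∀ x ∈ (P : Subgroup S),
    (α * β * α⁻¹ * β⁻¹) x = s * x * s⁻¹

/-- every almost simple group `A` with socle `S` of index prime to `p` has an irreducible character in the principal block
whose restriction to `S` is irreducible and not trivial -/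
def ExtB (p : ℕ) (M : Ideal AlgInt) (S : Type u) [Group S] : Prop :=
  ∀ (A : Type u) [Group A] [Finite A] (f : S →* A), Function.Injective f → f.range.Normal →
    centralizer (f.range : Set A) = ⊥ → ¬ p ∣ f.range.index →
    ∃ ψ : IrrCharacter A, ψ ∈ principalBlock M A ∧ IsIrrCharacter S (fun s => (ψ : A → ℂ) (f s)) ∧
      ∃ s : S, (ψ : A → ℂ) (f s) ≠ 1

/-- `χ` lies over `θ` -/
def Over {G : Type u} [Group G] (N : Subgroup G) (χ : IrrCharacter G) (θ : IrrCharacter N) : Prop :=
  ∑ᶠ n : N, (χ : G → ℂ) n * conj ((θ : N → ℂ) n) ≠ 0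

theorem over_iff {G : Type u} [Group G] {N : Subgroup G} [Fintype N] {χ : IrrCharacter G} {θ : IrrCharacter N} :
    Over N χ θ ↔ classInner (fun n : N => (χ : G → ℂ) n) (θ : N → ℂ) ≠ 0 := by
  unfold Over classInner
  rw [finsum_eq_sum_of_fintype, mul_ne_zero_iff]
  have : ((Nat.card N : ℂ))⁻¹ ≠ 0 := inv_ne_zero (Nat.cast_ne_zero.2 Nat.card_pos.ne')
  exact ⟨fun h => ⟨this, h⟩, fun h => h.2⟩

/-- `χ` lies over a character of `N` which is not trivial on exactly `j` of the components of `N` -/
def NT {G : Type u} [Group G] (N : Subgroup G) (χ : IrrCharacter G) (j : ℕ) : Prop :=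
  ∃ θ : IrrCharacter N, Over N χ θ ∧
    Nat.card {V : minSet N // ∃ n : N, (n : G) ∈ V.1 ∧ (θ : N → ℂ) n ≠ (θ : N → ℂ) 1} = j

end Cfsg.Agent.H508.KB
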