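import Cfsg.Agent.H508.KB.Defs
import Cfsg.Agent.OddHalf.Known

/-!
# S4822: assembly

`Rows p M` : all rows for simple groups with noncyclic Sylow `p`-subgroups, `p ≥ 11`; `main_of` : the theorem.
-/

set_option autoImplicit false

open Cfsg Subgroup

namespace Cfsg.Agent.H508.KB

universe u

/-- the noncyclic case -/
abbrev NC (p : ℕ) (S : Type u) [Group S] : Prop := ∀ P : Sylow p S, ¬ IsCyclic (P : Subgroup S)

/-- the rows in cross characteristic and the rest -/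
structure Rows (p : ℕ) (M : Ideal AlgInt) : Prop where
  cyc : ∀ (A : Type u) [Group A] [Finite A] (S : Subgroup A) [S.Normal], ¬ p ∣ S.index → IsSimpleGroup S →
    ¬ IsMulCommutative S → p ∣ Nat.card S → ∀ P : Sylow p S, IsCyclic (P : Subgroup S) → Good M S p
  alt : ∀ (S : Type u) [Group S] [Finite S] [IsSimpleGroup S] (m : ℕ), 5 ≤ m → Nonempty (S ≃* alternatingGroup (Fin m)) →
    NC p S → Row p M S
  spor : ∀ (S : Type u) [Group S] [Finite S] [IsSimpleGroup S], IsSporadicGroup S → NC p S → Row p M S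
  tits : ∀ (S : Type u) [Group S] [Finite S] [IsSimpleGroup S], Lie.IsoTits S → NC p S → Row p M S
  own : ∀ (S : Type u) [Group S] [Finite S] [IsSimpleGroup S], IsLieTypeChar p S → NC p S → Row p M S
  psl : ∀ (r : ℕ) [Fact r.Prime], r ≠ p → ∀ (S : Type u) [Group S] [Finite S] [IsSimpleGroup S], IsPSLChar r S → NC p S →
    Row p M S
  psp : ∀ (r : ℕ) [Fact r.Prime], r ≠ p → ∀ (S : Type u) [Group S] [Finite S] [IsSimpleGroup S], IsPSpChar r S → NC p S →
    Row p M S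
  psu : ∀ (r : ℕ) [Fact r.Prime], r ≠ p → ∀ (S : Type u) [Group S] [Finite S] [IsSimpleGroup S], IsPSUChar r S → NC p S →
    Row p M S
  oOdd : ∀ (r : ℕ) [Fact r.Prime], r ≠ p → ∀ (S : Type u) [Group S] [Finite S] [IsSimpleGroup S], IsPOmegaOddChar r S →
    NC p S → Row p M S
  oPlus : ∀ (r : ℕ) [Fact r.Prime], r ≠ p → ∀ (S : Type u) [Group S] [Finite S] [IsSimpleGroup S] (F : Type) [Field F]
    [Fintype F] [CharP F r] (m : ℕ), 5 ≤ m → Nonempty (S ≃* POmega F (quadFormPlus m F)) → NC p S → Row p M S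
  oPlus4 : ∀ (r : ℕ) [Fact r.Prime], r ≠ p → ∀ (S : Type u) [Group S] [Finite S] [IsSimpleGroup S] (F : Type) [Field F]
    [Fintype F] [CharP F r], Nonempty (S ≃* POmega F (quadFormPlus 4 F)) → NC p S → Row p M S
  oMinus : ∀ (r : ℕ) [Fact r.Prime], r ≠ p → ∀ (S : Type u) [Group S] [Finite S] [IsSimpleGroup S], IsPOmegaMinusChar r S →
    NC p S → Row p M S
  g2 : ∀ (r : ℕ) [Fact r.Prime], r ≠ p → ∀ (S : Type u) [Group S] [Finite S] [IsSimpleGroup S] (F : Type) [Field F]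
    [Fintype F] [CharP F r], 3 ≤ Fintype.card F → Nonempty (S ≃* Lie.chevG2.group F) → NC p S → Row p M S
  f4 : ∀ (r : ℕ) [Fact r.Prime], r ≠ p → ∀ (S : Type u) [Group S] [Finite S] [IsSimpleGroup S] (F : Type) [Field F]
    [Fintype F] [CharP F r], Nonempty (S ≃* Lie.chevF4.group F) → NC p S → Row p M S
  e6 : ∀ (r : ℕ) [Fact r.Prime], r ≠ p → ∀ (S : Type u) [Group S] [Finite S] [IsSimpleGroup S] (F : Type) [Field F]
    [Fintype F] [CharP F r], Nonempty (S ≃* Lie.chevE6.group F) → NC p S → Row p M S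
  e7 : ∀ (r : ℕ) [Fact r.Prime], r ≠ p → ∀ (S : Type u) [Group S] [Finite S] [IsSimpleGroup S] (F : Type) [Field F]
    [Fintype F] [CharP F r], Nonempty (S ≃* Lie.chevE7.group F) → NC p S → Row p M S
  e8 : ∀ (r : ℕ) [Fact r.Prime], r ≠ p → ∀ (S : Type u) [Group S] [Finite S] [IsSimpleGroup S] (F : Type) [Field F]
    [Fintype F] [CharP F r], Nonempty (S ≃* Lie.chevE8.group F) → NC p S → Row p M S
  te6 : ∀ (r : ℕ) [Fact r.Prime], r ≠ p → ∀ (S : Type u) [Group S] [Finite S] [IsSimpleGroup S] (F : Type) [Field F]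
    [Fintype F] [CharP F r] (q : ℕ), IsPrimePow q → Fintype.card F = q ^ 2 → Nonempty (S ≃* Lie.twistedE6 F q) → NC p S →
    Row p M S
  td4 : ∀ (r : ℕ) [Fact r.Prime], r ≠ p → ∀ (S : Type u) [Group S] [Finite S] [IsSimpleGroup S] (F : Type) [Field F]
    [Fintype F] [CharP F r] (q : ℕ), IsPrimePow q → Fintype.card F = q ^ 3 → Nonempty (S ≃* Lie.twistedD4 F q) → NC p S →
    Row p M S
  sz : ∀ (S : Type u) [Group S] [Finite S] [IsSimpleGroup S], Lie.IsoSuzuki S → NC p S → Row p M S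
  ree : ∀ (S : Type u) [Group S] [Finite S] [IsSimpleGroup S], Lie.IsoRee S → NC p S → Row p M S
  tf4 : ∀ (S : Type u) [Group S] [Finite S] [IsSimpleGroup S], Lie.Iso2F4 S → NC p S → Row p M S

theorem Rows.row {p : ℕ} [Fact p.Prime] (h11 : 11 ≤ p) {M : Ideal AlgInt} (R : Rows.{u} p M) (S : Type u) [Group S]
    [Finite S] [IsSimpleGroup S] (hna : ¬ IsMulCommutative S) (hk : IsKnownSimple' S) (hP : NC p S) : Row p M S := by
  have lie : ∀ r : ℕ, r.Prime → IsLieTypeChar r S → Row p M S := by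
    intro r hr h
    have hrF : Fact r.Prime := ⟨hr⟩
    by_cases hrp : r = p
    · subst hrp
      exact R.own S h hP
    rcases h with h | h | h | h | h | h | h | h | ⟨-, h⟩ | ⟨-, h⟩ | ⟨-, h⟩
    · exact R.psl r hrp S h hP
    · exact R.psp r hrp S h hP
    · exact R.psu r hrp S h hP
    · exact R.oOdd r hrp S h hP
    · obtain ⟨F, i1, i2, i3, m, hm, e⟩ := h
      rcases Nat.lt_or_ge m 5 with h5 | h5
      · obtain rfl : m = 4 := by omega
        exact R.oPlus4 r hrp S F e hP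
      · exact R.oPlus r hrp S F m h5 e hP
    · exact R.oMinus r hrp S h hP
    · obtain ⟨F, i1, i2, i3, h⟩ := h
      rcases h with ⟨h3, e⟩ | e | e | e | e
      · exact R.g2 r hrp S F h3 e hP
      · exact R.f4 r hrp S F e hP
      · exact R.e6 r hrp S F e hP
      · exact R.e7 r hrp S F e hP
      · exact R.e8 r hrp S F e hP
    · obtain ⟨F, i1, i2, i3, q, hq, ⟨hF, e⟩ | ⟨hF, e⟩⟩ := h
      · exact R.te6 r hrp S F q hq hF e hP
      · exact R.td4 r hrp S F q hq hF e hP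
    · exact R.sz S h hP
    · exact R.tf4 S h hP
    · exact R.ree S h hP
  rcases Cfsg.Agent.OddHalf.Known.classify' hna hk with h | ⟨r, hr, h⟩ | h | h
  · obtain ⟨m, hm, e⟩ := h
    exact R.alt S m hm e hP
  · exact lie r hr h
  · exact R.tits S h hP
  · exact R.spor S h hP

/-- all rows -/
theorem Rows.good {p : ℕ} [Fact p.Prime] (h11 : 11 ≤ p) {M : Ideal AlgInt} (R : Rows.{u} p M)
    (hk : ∀ (S : Type u) [Group S] [Finite S] [IsSimpleGroup S], IsKnownSimple' S)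
    (A : Type u) [Group A] [Finite A] (S : Subgroup A) [S.Normal] (hs : IsSimpleGroup S) (hna : ¬ IsMulCommutative S)
    (hcen : centralizer (S : Set A) = ⊥) (hcop : ¬ p ∣ S.index) (hp : p ∣ Nat.card S) : Good M S p := by
  by_cases hP : NC p ↥S
  · exact R.row h11 ↥S hna (hk ↥S) hP A S ⟨MulEquiv.refl _⟩ hcen hcop
  · unfold NC at hP
    push Not at hP
    obtain ⟨P, hP⟩ := hP
    exact R.cyc A S hcop hs hna hp P hP

/-- **The assembly.** -/
theorem main_of {p : ℕ} [Fact p.Prime] {M : Ideal AlgInt}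
    (small : p ≤ 7 → ∀ (G : Type u) [Group G] [Finite G], p ∣ Nat.card G → 4 * (p - 1) ≤ kB M G ^ 2)
    (reduce : 
      (∀ (G : Type u) [Group G] [Finite G] (N : Subgroup G) [N.Normal],
        (∀ K : Subgroup G, K.Normal → K ≤ N → K = ⊥ ∨ K = N) → N ≠ ⊥ → (∀ x ∈ N, ∀ y ∈ N, x * y = y * x) → IsPGroup p N →
        centralizer (N : Set G) = N → ¬ p ∣ N.index → 4 * (p - 1) ≤ kB M G ^ 2) →
      (∀ (G : Type u) [Group G] [Finite G] (N : Subgroup G) [N.Normal],
        (∀ K : Subgroup G, K.Normal → K ≤ N → K = ⊥ ∨ K = N) → N ≠ ⊥ → (¬ ∀ x ∈ N, ∀ y ∈ N, x * y = y * x) →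
        centralizer (N : Set G) = ⊥ → ¬ p ∣ N.index → p ∣ Nat.card N → 4 * (p - 1) ≤ kB M G ^ 2) →
      ∀ (G : Type u) [Group G] [Finite G], p ∣ Nat.card G → 4 * (p - 1) ≤ kB M G ^ 2)
    (affine : 11 ≤ p → ∀ (G : Type u) [Group G] [Finite G] (N : Subgroup G) [N.Normal],
      (∀ K : Subgroup G, K.Normal → K ≤ N → K = ⊥ ∨ K = N) → N ≠ ⊥ → (∀ x ∈ N, ∀ y ∈ N, x * y = y * x) → IsPGroup p N →
      centralizer (N : Set G) = N → ¬ p ∣ N.index → 4 * (p - 1) ≤ kB M G ^ 2)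
    (nonab : (∀ (A : Type u) [Group A] [Finite A] (S : Subgroup A) [S.Normal], IsSimpleGroup S → ¬ IsMulCommutative S →
        centralizer (S : Set A) = ⊥ → ¬ p ∣ S.index → p ∣ Nat.card S → Good M S p) →
      ∀ (G : Type u) [Group G] [Finite G] (N : Subgroup G) [N.Normal],
      (∀ K : Subgroup G, K.Normal → K ≤ N → K = ⊥ ∨ K = N) → N ≠ ⊥ → (¬ ∀ x ∈ N, ∀ y ∈ N, x * y = y * x) →
      centralizer (N : Set G) = ⊥ → ¬ p ∣ N.index → p ∣ Nat.card N → 4 * (p - 1) ≤ kB M G ^ 2)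
    (R : 11 ≤ p → Rows.{u} p M)
    (hk : ∀ (S : Type u) [Group S] [Finite S] [IsSimpleGroup S], IsKnownSimple' S)
    (G : Type u) [Group G] [Finite G] (hpG : p ∣ Nat.card G) : 4 * (p - 1) ≤ kB M G ^ 2 := by
  rcases Nat.lt_or_ge 7 p with h7 | h7
  · have h11 : 11 ≤ p := by
      by_contra h
      have h1 : p = 8 ∨ p = 9 ∨ p = 10 := by omega
      have hp := (Fact.out : p.Prime)
      rcases h1 with rfl | rfl | rfl <;> revert hp <;> decide
    exact reduce (affine h11) (nonab fun A _ _ S _ hs hna hcen hcop hp => (R h11).good h11 hk A S hs hna hcen hcop hp) G hpG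
  · exact small h7 G hpG

end Cfsg.Agent.H508.KB
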