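import Cfsg.Agent.H508.KB.Defs
import Cfsg.Agent.H97.KB.TwFDat
import Cfsg.Agent.H299.AO.TwoF4
import Cfsg.Agent.H191.KB.Final
import Cfsg.Agent.H832.KB.RankTwo

/-!
# S4822, KE9: `²F₄(q)` (data of the Sylow subgroups: helper97)
-/

set_option autoImplicit false

open Cfsg Subgroup

namespace Cfsg.Agent.H508.KB

universe u

variable {p : ℕ} [Fact p.Prime] {M : Ideal AlgInt}

theorem row_2F4 (S : Type u) [Group S] [Finite S] [IsSimpleGroup S] (h11 : 11 ≤ p) (hM : IsPModular p M)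
    (h : Lie.Iso2F4 S) (hP : ∀ P : Sylow p S, ¬ IsCyclic (P : Subgroup S)) : Row p M S := by
  refine Cfsg.Agent.H191.KB.row_of_ab hM (Cfsg.Agent.H299.AO.ab_2F4 p S (by omega) h) ?_
  obtain ⟨K, _, _, m, hm, hK, ⟨e⟩⟩ := h
  have hfin : Finite ↥(Lie.twistedF4 K (2 ^ m)) := Finite.of_equiv _ e.toEquiv
  have hP' : ∀ P : Sylow p ↥(Lie.twistedF4 K (2 ^ m)), ¬ IsCyclic ↥(P : Subgroup ↥(Lie.twistedF4 K (2 ^ m))) := by
    intro P hc
    have hs : Function.Surjective e.symm.toMonoidHom := e.symm.surjective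
    apply hP (P.mapSurjective hs)
    rw [Sylow.coe_mapSurjective]
    exact isCyclic_of_surjective _ (e.symm.toMonoidHom.subgroupMap_surjective (P : Subgroup ↥(Lie.twistedF4 K (2 ^ m))))
  obtain ⟨P, x, y, c, d, j, h1, h2, h3, h4, h5, h6, h7, h8, h9⟩ :=
    (Cfsg.Agent.H97.KB.TwFDat.exists_dat h11 hK hP').congr e.symm
  exact h9.trans (Cfsg.Agent.H832.KB.kB_of_rank_two hM P x y h2 h1 h3 h4 h5 d h6 c h7 j h8)

end Cfsg.Agent.H508.KB
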